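import Groth.Agent.FrobLCI.CE.Model
import Groth.Prelude.Def_Koszul

/-!
The prelude's mapping-cone Koszul complex receives the concrete model.
-/

universe u

open CategoryTheory CochainComplex.HomComplex

namespace Groth.FrobLCI.CE

variable {A : Type u} [CommRing A]

theorem isZero_koszul : ∀ (l : List A) (i : ℤ), 0 < i → Limits.IsZero ((Koszul.koszul A l).X i)
  | [], i, hi => HomologicalComplex.isZero_single_obj_X _ _ _ _ (by omega)
  | f :: l, i, hi => by
    rw [Limits.IsZero.iff_id_eq_zero]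
    have h := CochainComplex.mappingCone.id_X (f • 𝟙 (Koszul.koszul A l)) i (i + 1) rfl
    have h1 : ((CochainComplex.mappingCone.fst (f • 𝟙 (Koszul.koszul A l))).1.v i (i + 1) rfl) = 0 :=
      (isZero_koszul l (i + 1) (by omega)).eq_of_tgt _ _
    have h2 : ((CochainComplex.mappingCone.snd (f • 𝟙 (Koszul.koszul A l))).v i i (add_zero i)) = 0 :=
      (isZero_koszul l i hi).eq_of_tgt _ _
    rw [h1, h2, Limits.zero_comp, Limits.zero_comp, add_zero] at h
    exact h.symm

theorem exists_bridge : ∀ {n : ℕ} (x : Fin n → A),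
    ∃ ι : ∀ i : ℕ, (idx n i → A) →ₗ[A] (Koszul.koszul A (List.ofFn x)).X (-(i : ℤ)),
      Function.Surjective (ι 0) ∧
      ∀ i (v : idx n (i + 1) → A),
        ((Koszul.koszul A (List.ofFn x)).d (-((i + 1 : ℕ) : ℤ)) (-(i : ℤ))).hom (ι (i + 1) v) =
          ι i (d x i v) := by
  intro n
  induction n with
  | zero =>
    intro x
    rw [List.ofFn_zero]
    let e : (Koszul.koszul A ([] : List A)).X (-((0 : ℕ) : ℤ)) ≅ ModuleCat.of A A :=
      HomologicalComplex.singleObjXSelf (ComplexShape.up ℤ) 0 (ModuleCat.of A A)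
    refine ⟨fun i => match i with
      | 0 => e.inv.hom.comp (LinearMap.proj ())
      | _ + 1 => 0, fun z => ⟨fun _ => e.hom.hom z, ?_⟩, fun i v => ?_⟩
    · exact LinearMap.congr_fun (congrArg ModuleCat.Hom.hom e.hom_inv_id) z
    · cases i with
      | zero =>
        rw [show d x 0 v = (0 : idx 0 0 → A) from rfl, map_zero]
        exact map_zero _
      | succ i =>
        rw [show d x (i + 1) v = (0 : idx 0 (i + 1) → A) from rfl, map_zero]
        exact map_zero _
  | succ n ih =>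
    intro x
    obtain ⟨ι, hsurj, hι⟩ := ih (Fin.tail x)
    rw [List.ofFn_succ, show (fun i : Fin n => x i.succ) = Fin.tail x from rfl]
    have hz := isZero_koszul (List.ofFn (Fin.tail x))
    change ∃ ι : ∀ i : ℕ, (idx (n + 1) i → A) →ₗ[A]
        (CochainComplex.mappingCone (x 0 • 𝟙 (Koszul.koszul A (List.ofFn (Fin.tail x))))).X (-(i : ℤ)),
      Function.Surjective (ι 0) ∧ ∀ i (v : idx (n + 1) (i + 1) → A),
        ((CochainComplex.mappingCone (x 0 • 𝟙 (Koszul.koszul A (List.ofFn (Fin.tail x))))).d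
          (-((i + 1 : ℕ) : ℤ)) (-(i : ℤ))).hom (ι (i + 1) v) = ι i (d x i v)
    generalize Koszul.koszul A (List.ofFn (Fin.tail x)) = K at ι hsurj hι hz ⊢
    let φ : K ⟶ K := x 0 • 𝟙 K
    let inl : ∀ i : ℕ, K.X (-(i : ℤ)) →ₗ[A] (CochainComplex.mappingCone φ).X (-((i + 1 : ℕ) : ℤ)) := fun i =>
      ((CochainComplex.mappingCone.inl φ).v (-(i : ℤ)) (-((i + 1 : ℕ) : ℤ)) (by push_cast; omega)).hom
    let inr : ∀ i : ℕ, K.X (-(i : ℤ)) →ₗ[A] (CochainComplex.mappingCone φ).X (-(i : ℤ)) := fun i =>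
      ((CochainComplex.mappingCone.inr φ).f (-(i : ℤ))).hom
    refine ⟨fun i => match i with
      | 0 => (inr 0).comp (ι 0)
      | i + 1 => (inl i).comp ((ι i).comp (LinearMap.funLeft A A (Sum.inl : idx n i → idx n i ⊕ idx n (i + 1)))) +
          (inr (i + 1)).comp ((ι (i + 1)).comp (LinearMap.funLeft A A Sum.inr)), ?_, ?_⟩
    · intro z
      have h := LinearMap.congr_fun (congrArg ModuleCat.Hom.hom
        (CochainComplex.mappingCone.id_X φ (-((0 : ℕ) : ℤ)) (-((0 : ℕ) : ℤ) + 1) rfl)) z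
      have h1 : ((CochainComplex.mappingCone.fst φ).1.v (-((0 : ℕ) : ℤ)) (-((0 : ℕ) : ℤ) + 1) rfl) = 0 :=
        (hz _ (by simp)).eq_of_tgt _ _
      rw [h1, Limits.zero_comp, zero_add] at h
      obtain ⟨v, hv⟩ := hsurj (((CochainComplex.mappingCone.snd φ).v (-((0 : ℕ) : ℤ)) _ (add_zero _)).hom z)
      exact ⟨v, (congrArg (inr 0) hv).trans h⟩
    · intro i v
      have hinr : ∀ (j : ℕ) (a : K.X (-((j + 1 : ℕ) : ℤ))),
          ((CochainComplex.mappingCone φ).d (-((j + 1 : ℕ) : ℤ)) (-(j : ℤ))).hom (inr (j + 1) a) =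
            inr j ((K.d (-((j + 1 : ℕ) : ℤ)) (-(j : ℤ))).hom a) := fun j a =>
        LinearMap.congr_fun (congrArg ModuleCat.Hom.hom
          (CochainComplex.mappingCone.inr_f_d φ (-((j + 1 : ℕ) : ℤ)) (-(j : ℤ)))) a
      cases i with
      | zero =>
        have hinl : ∀ a : K.X (-((0 : ℕ) : ℤ)),
            ((CochainComplex.mappingCone φ).d (-((0 + 1 : ℕ) : ℤ)) (-((0 : ℕ) : ℤ))).hom (inl 0 a) =
              inr 0 (x 0 • a) := fun a => by
          have h := LinearMap.congr_fun (congrArg ModuleCat.Hom.hom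
            (CochainComplex.mappingCone.inl_v_d φ (-((0 : ℕ) : ℤ)) (-((0 + 1 : ℕ) : ℤ)) (-((0 : ℕ) : ℤ) + 1)
              (by omega) (by omega))) a
          rw [(hz (-((0 : ℕ) : ℤ) + 1) (by simp)).eq_of_tgt (K.d _ _) 0, Limits.zero_comp,
            sub_zero] at h
          exact h
        change ((CochainComplex.mappingCone φ).d _ _).hom
          (inl 0 (ι 0 fun k => v (Sum.inl k)) + inr 1 (ι 1 fun k => v (Sum.inr k))) = inr 0 (ι 0 (d x 0 v))
        rw [map_add, hinl, hinr, hι, ← map_smul (ι 0), ← map_add, ← map_add]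
        rfl
      | succ i =>
        have hinl : ∀ a : K.X (-((i + 1 : ℕ) : ℤ)),
            ((CochainComplex.mappingCone φ).d (-((i + 1 + 1 : ℕ) : ℤ)) (-((i + 1 : ℕ) : ℤ))).hom (inl (i + 1) a) =
              inr (i + 1) (x 0 • a) - inl i ((K.d (-((i + 1 : ℕ) : ℤ)) (-(i : ℤ))).hom a) := fun a =>
          LinearMap.congr_fun (congrArg ModuleCat.Hom.hom
            (CochainComplex.mappingCone.inl_v_d φ (-((i + 1 : ℕ) : ℤ)) (-((i + 1 + 1 : ℕ) : ℤ)) (-(i : ℤ))
              (by push_cast; omega) (by push_cast; omega))) a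
        change ((CochainComplex.mappingCone φ).d _ _).hom
          (inl (i + 1) (ι (i + 1) fun k => v (Sum.inl k)) + inr (i + 1 + 1) (ι (i + 1 + 1) fun k => v (Sum.inr k))) =
            inl i (ι i fun k => d x (i + 1) v (Sum.inl k)) + inr (i + 1) (ι (i + 1) fun k => d x (i + 1) v (Sum.inr k))
        rw [map_add, hinl, hinr, hι, hι]
        have e1 : (fun k => d x (i + 1) v (Sum.inl k)) = -(d (Fin.tail x) i fun k => v (Sum.inl k)) := rfl
        have e2 : (fun k => d x (i + 1) v (Sum.inr k)) =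
            x 0 • (fun k => v (Sum.inl k)) + d (Fin.tail x) (i + 1) (fun k => v (Sum.inr k)) := rfl
        rw [e1, e2, map_neg (ι i), map_neg (inl i), map_add (ι (i + 1)), map_smul (ι (i + 1)),
          map_add (inr (i + 1))]
        abel

end Groth.FrobLCI.CE
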