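import Groth.Agent.FrobLCI.CE.Model

/-!
The lifting argument behind the canonical element property: if `c` kills the positive Koszul homology
of `x`, a chain map from the Koszul complex into a free complex has a large top component.
-/

universe u

namespace Groth.FrobLCI.CE

variable {R : Type u} [CommRing R]

/-- Base change of a map of finite free modules along a ring homomorphism. -/
noncomputable def tw {S : Type*} [CommRing S] (φ : R →+* S) {ι κ : Type} [Fintype ι] [DecidableEq ι]
    [Fintype κ] [DecidableEq κ] (L : (ι → R) →ₗ[R] (κ → R)) : (ι → S) →ₗ[S] (κ → S) :=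
  Matrix.mulVecLin ((LinearMap.toMatrix' L).map φ)

theorem tw_apply {S : Type*} [CommRing S] (φ : R →+* S) {ι κ : Type} [Fintype ι] [DecidableEq ι]
    [Fintype κ] [DecidableEq κ] (L : (ι → R) →ₗ[R] (κ → R)) (v : ι → R) :
    tw φ L (φ ∘ v) = φ ∘ L v := by
  funext k
  rw [tw, Matrix.mulVecLin_apply, Function.comp_apply, ← RingHom.map_mulVec, LinearMap.toMatrix'_mulVec]

theorem map_single {S : Type*} [CommRing S] (φ : R →+* S) {ι : Type} [DecidableEq ι] (i : ι) :
    (Pi.single i (1 : S) : ι → S) = φ ∘ (Pi.single i 1) := by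
  funext k
  by_cases h : k = i
  · subst h; simp
  · simp [h]

theorem ext_single {ι : Type} [Fintype ι] [DecidableEq ι] {M : Type*} [AddCommGroup M] [Module R M]
    {L L' : (ι → R) →ₗ[R] M} (h : ∀ i, L (Pi.single i 1) = L' (Pi.single i 1)) : L = L' :=
  (Pi.basisFun R ι).ext fun i => by simpa using h i

theorem mem_of_forall_mem {ι κ : Type} [Fintype ι] [DecidableEq ι] (L : (ι → R) →ₗ[R] (κ → R))
    (I : Ideal R) {v : ι → R} (hv : ∀ i, v i ∈ I) (k : κ) : L v k ∈ I := by
  rw [← (Pi.basisFun R ι).sum_repr v, map_sum, Finset.sum_apply]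
  refine I.sum_mem fun i _ => ?_
  rw [map_smul, Pi.smul_apply, smul_eq_mul, Pi.basisFun_repr]
  exact I.mul_mem_right _ (hv i)

/-- The main lifting lemma. -/
theorem main {n : ℕ} (x : Fin n → R) (c : R)
    (hc : ∀ (i : ℕ) (v : idx n (i + 1) → R), d x i v = 0 → ∃ w, d x (i + 1) w = c • v)
    (b : ℕ → ℕ) (G : ∀ i, (Fin (b (i + 1)) → R) →ₗ[R] (Fin (b i) → R))
    (hG : ∀ i v, G i (G (i + 1) v) = 0) (f : ∀ i, (idx n i → R) →ₗ[R] (Fin (b i) → R))
    (hf : ∀ i v, f i (d x i v) = G i (f (i + 1) v))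
    (u : (Fin (b 0) → R) →ₗ[R] R) (hu : ∀ v, u (G 0 v) ∈ Ideal.span (Set.range x)) :
    c ^ (n + 1) * u (f 0 (Pi.single (pt n) 1)) ∈
      Ideal.span (Set.range x) ⊔ Ideal.span (Set.range (f n (Pi.single (top n) 1))) := by
  classical
  set J := Ideal.span (Set.range x) with hJ
  let Sig : ℕ → Type u := fun i =>
    {p : ((Fin (b i) → R) →ₗ[R] (idx n i → R)) × ((Fin (b (i + 1)) → R) →ₗ[R] (idx n (i + 1) → R)) //
      ∀ v, d x i (p.2 v) = c • p.1 (G i v)}
  have hbase : ∃ g1 : (Fin (b 1) → R) →ₗ[R] (idx n 1 → R),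
      ∀ v, d x 0 (g1 v) = c • fun _ => u (G 0 v) := by
    choose w hw using fun e : Fin (b 1) => exists_d_eq x (u (G 0 (Pi.single e 1)))
      (by rw [smul_eq_mul, Ideal.mul_top]; exact hu _)
    refine ⟨(Pi.basisFun R _).constr R fun e => c • w e, fun v => ?_⟩
    have h : (dL (M := R) x 0).comp ((Pi.basisFun R _).constr R fun e => c • w e) =
        c • ((LinearMap.pi fun _ => u).comp (G 0)) := ext_single fun e => by
      rw [LinearMap.comp_apply, ← Pi.basisFun_apply, Module.Basis.constr_basis, map_smul, LinearMap.smul_apply,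
        LinearMap.comp_apply, Pi.basisFun_apply]
      congr 1
      funext j
      rw [eq_pt n j]
      exact hw e
    exact LinearMap.congr_fun h v
  let base : Sig 0 := ⟨(LinearMap.pi fun _ => u, hbase.choose), hbase.choose_spec⟩
  have hstep : ∀ i (S : Sig i), ∃ g : (Fin (b (i + 2)) → R) →ₗ[R] (idx n (i + 2) → R),
      ∀ v, d x (i + 1) (g v) = c • S.1.2 (G (i + 1) v) := fun i S => by
    choose w hw using fun e : Fin (b (i + 2)) => hc i (S.1.2 (G (i + 1) (Pi.single e 1))) (by
      rw [S.2, hG, map_zero, smul_zero])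
    refine ⟨(Pi.basisFun R _).constr R w, fun v => ?_⟩
    have h : (dL (M := R) x (i + 1)).comp ((Pi.basisFun R _).constr R w) =
        c • (S.1.2.comp (G (i + 1))) := ext_single fun e => by
      rw [LinearMap.comp_apply, ← Pi.basisFun_apply, Module.Basis.constr_basis, LinearMap.smul_apply,
        LinearMap.comp_apply, Pi.basisFun_apply]
      exact hw e
    exact LinearMap.congr_fun h v
  let step : ∀ i, Sig i → Sig (i + 1) := fun i S =>
    ⟨(S.1.2, (hstep i S).choose), (hstep i S).choose_spec⟩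
  let S : ∀ i, Sig i := fun i => Nat.rec base step i
  let g : ∀ i, (Fin (b i) → R) →ₗ[R] (idx n i → R) := fun i => (S i).1.1
  have hg : ∀ i v, d x i (g (i + 1) v) = c • g i (G i v) := fun i v => (S i).2 v
  set s := u (f 0 (Pi.single (pt n) 1)) with hs
  let δ : ∀ i, (idx n i → R) →ₗ[R] (idx n i → R) := fun i => (g i).comp (f i) - (c ^ i * s) • LinearMap.id
  have hδapply : ∀ i v, δ i v = g i (f i v) - (c ^ i * s) • v := fun i v => rfl
  have hδ : ∀ i v, d x i (δ (i + 1) v) = c • δ i (d x i v) := fun i v => by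
    rw [hδapply, hδapply, sub_eq_add_neg, d_add, ← neg_smul, d_smul, hg, ← hf, smul_sub, smul_smul, neg_smul,
      ← sub_eq_add_neg, pow_succ', mul_assoc]
  have hδ0 : δ 0 = 0 := ext_single fun j => by
    funext k
    rw [hδapply, eq_pt n j, eq_pt n k, pow_zero, one_mul, Pi.sub_apply, Pi.smul_apply, Pi.single_eq_same,
      smul_eq_mul, mul_one]
    show u (f 0 (Pi.single (pt n) 1)) - s = 0
    rw [hs, sub_self]
  have hη : ∀ i, ∃ η : (idx n i → R) →ₗ[R] (idx n (i + 1) → R),
      ∀ v, d x i (δ (i + 1) v - η (d x i v)) = 0 := by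
    intro i
    induction i with
    | zero =>
      refine ⟨0, fun v => ?_⟩
      rw [LinearMap.zero_apply, sub_zero, hδ, hδ0, LinearMap.zero_apply, smul_zero]
    | succ i ih =>
      obtain ⟨η, hη⟩ := ih
      choose w hw using fun e : idx n (i + 1) => hc i _ (hη (Pi.single e 1))
      refine ⟨(Pi.basisFun R _).constr R w, fun v => ?_⟩
      have h : (dL (M := R) x (i + 1)).comp ((Pi.basisFun R _).constr R w) =
          c • (δ (i + 1) - η.comp (dL (M := R) x i)) := ext_single fun e => by
        rw [LinearMap.comp_apply, ← Pi.basisFun_apply, Module.Basis.constr_basis, LinearMap.smul_apply,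
          LinearMap.sub_apply, LinearMap.comp_apply, Pi.basisFun_apply]
        exact hw e
      have h' : d x (i + 1) ((Pi.basisFun R _).constr R w (d x (i + 1) v)) =
          c • (δ (i + 1) (d x (i + 1) v) - η (d x i (d x (i + 1) v))) := LinearMap.congr_fun h _
      rw [sub_eq_add_neg, ← neg_one_smul R ((Pi.basisFun R _).constr R w _), d_add, d_smul, h', hδ, d_d, map_zero,
        sub_zero, neg_one_smul, add_neg_cancel]
  set e₀ : idx n n → R := Pi.single (top n) 1 with he₀
  set T := Ideal.span (Set.range (f n e₀)) with hT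
  have hgf : ∀ k, g n (f n e₀) k ∈ T :=
    fun k => mem_of_forall_mem (g n) T (fun j => Ideal.subset_span (Set.mem_range_self j)) k
  have he₁ : e₀ (top n) = 1 := Pi.single_eq_same _ _
  cases n with
  | zero =>
    refine Submodule.mem_sup_right (T.mul_mem_left _ ?_)
    have h0 : u (f 0 e₀) ∈ T := hgf (pt 0)
    exact h0
  | succ m =>
    obtain ⟨η, hη⟩ := hη m
    obtain ⟨w, hw⟩ := hc m _ (hη e₀)
    have hw0 : w = 0 := funext fun j => (isEmpty_idx (m + 1) (m + 2) (by omega)).elim j
    have h1 := congrFun hw (top (m + 1))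
    rw [hw0, show d x (m + 1) (0 : idx (m + 1) (m + 2) → R) = 0 from (dL x (m + 1)).map_zero, Pi.zero_apply,
      Pi.smul_apply, Pi.sub_apply, hδapply, Pi.sub_apply, Pi.smul_apply, he₁, smul_eq_mul,
      smul_eq_mul, mul_one] at h1
    have h2 : η (d x m e₀) (top (m + 1)) ∈ J := mem_of_forall_mem η J (fun j => by
      have := d_mem_smul_top x m e₀ j
      rwa [smul_eq_mul, Ideal.mul_top] at this) _
    rw [show c ^ (m + 1 + 1) * s =
        c * g (m + 1) (f (m + 1) e₀) (top (m + 1)) - c * η (d x m e₀) (top (m + 1)) by linear_combination h1]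
    exact sub_mem (Submodule.mem_sup_right (T.mul_mem_left _ (hgf _))) (Submodule.mem_sup_left (J.mul_mem_left _ h2))

end Groth.FrobLCI.CE
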