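import Groth.Agent.FrobLCI.CE.Complete
import Groth.Agent.FrobLCI.CE.Main
import Groth.Agent.FrobLCI.HK.Limit
import Groth.Agent.Calg1.CompletionLocal

/-!
Passing from a Noetherian local ring to a complete domain of the same dimension.
-/

universe u

namespace Groth.FrobLCI.CE

open IsLocalRing

theorem exists_pow_le_of_isFiniteLength {A : Type u} [CommRing A] [IsLocalRing A] [IsNoetherianRing A]
    {J : Ideal A} (h : IsFiniteLength A (A ⧸ J)) : ∃ N, maximalIdeal A ^ N ≤ J := by
  have := (isFiniteLength_iff_isNoetherian_isArtinian.1 h).2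
  obtain ⟨n, hn⟩ := IsArtinian.monotone_stabilizes
    (⟨fun n => OrderDual.toDual (Submodule.map (Submodule.mkQ J) (maximalIdeal A ^ n : Ideal A)),
      fun a b hab => OrderDual.toDual_le_toDual.2 (Submodule.map_mono (Ideal.pow_le_pow_right hab))⟩ :
      ℕ →o (Submodule A (A ⧸ J))ᵒᵈ)
  refine ⟨n, fun y hy => ?_⟩
  have h1 : Submodule.map (Submodule.mkQ J) (maximalIdeal A ^ n : Ideal A) =
      Submodule.map (Submodule.mkQ J) (maximalIdeal A ^ (n + 1) : Ideal A) :=
    congrArg OrderDual.ofDual (hn (n + 1) n.le_succ)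
  have hK : Submodule.map (Submodule.mkQ J) (maximalIdeal A ^ n : Ideal A) = ⊥ := by
    refine Submodule.eq_bot_of_le_smul_of_le_jacobson_bot (maximalIdeal A) _ (IsNoetherian.noetherian _) ?_
      (maximalIdeal_le_jacobson _)
    rw [← Submodule.map_smul'', smul_eq_mul, ← pow_succ']
    exact h1.le
  have h2 : Submodule.mkQ J y ∈ (⊥ : Submodule A (A ⧸ J)) := hK ▸ Submodule.mem_map_of_mem hy
  exact (Submodule.Quotient.mk_eq_zero J).1 h2

theorem isAdicComplete_quotient {C : Type u} [CommRing C] [IsLocalRing C] [IsNoetherianRing C]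
    [IsAdicComplete (maximalIdeal C) C] (J : Ideal C) [IsLocalRing (C ⧸ J)] :
    IsAdicComplete (maximalIdeal (C ⧸ J)) (C ⧸ J) := by
  have hs : Function.Surjective (AdicCompletion.of (maximalIdeal C) (C ⧸ J)) := fun z => by
    obtain ⟨w, rfl⟩ := AdicCompletion.map_surjective (maximalIdeal C) (Submodule.mkQ_surjective J) z
    obtain ⟨c, rfl⟩ := AdicCompletion.of_surjective (maximalIdeal C) C w
    exact ⟨Submodule.mkQ J c, (AdicCompletion.map_of (maximalIdeal C) (Submodule.mkQ J) c).symm⟩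
  have h1 : IsAdicComplete (maximalIdeal C) (C ⧸ J) :=
    AdicCompletion.of_bijective_iff.1 ⟨AdicCompletion.of_injective _ _, hs⟩
  rw [← Groth.MonConj.map_maximalIdeal_of_surjective (Ideal.Quotient.mk J) Ideal.Quotient.mk_surjective]
  exact (IsAdicComplete.map_algebraMap_iff (maximalIdeal C) (C ⧸ J) (S := C ⧸ J)).2 h1

/-- A ring map to a complete local domain of the same dimension, with a colon killer for the powers
of a system of parameters. -/
theorem exists_domain {A : Type u} [CommRing A] [IsNoetherianRing A] [IsLocalRing A] (p : ℕ) [Fact p.Prime]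
    [CharP A p] {d : ℕ} (hd : ringKrullDim A = d) (x : Fin d → A) (hx : ∀ j, x j ∈ maximalIdeal A)
    (hsop : IsFiniteLength A (A ⧸ Ideal.span (Set.range x))) :
    ∃ (D : Type u) (_ : CommRing D) (_ : IsDomain D) (_ : IsLocalRing D) (_ : IsNoetherianRing D)
      (_ : CharP D p) (ι : A →+* D) (c : D),
      ringKrullDim D = d ∧ (∀ a ∈ maximalIdeal A, ι a ∈ maximalIdeal D) ∧
      (∃ N, maximalIdeal D ^ N ≤ Ideal.span (Set.range (ι ∘ x))) ∧
      c ≠ 0 ∧ ∀ (m : ℕ) (i : ℕ) (v : idx d (i + 1) → D),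
        CE.d (fun j => ι (x j) ^ m) i v = 0 → ∃ w, CE.d (fun j => ι (x j) ^ m) (i + 1) w = c • v := by
  let C := AdicCompletion (maximalIdeal A) A
  have : IsNoetherianRing C :=
    Groth.Calg1.isNoetherianRing_adicCompletion _ (IsNoetherian.noetherian (maximalIdeal A))
  have hC : ringKrullDim C = d := (Groth.Calg1.ringKrullDim_adicCompletion A).trans hd
  obtain ⟨P, hP, hPd⟩ : ∃ P : Ideal C, P.IsPrime ∧ ringKrullDim (C ⧸ P) = d := by
    obtain ⟨s, hs⟩ := Order.le_krullDim_iff.1 (show (d : WithBot ℕ∞) ≤ Order.krullDim (PrimeSpectrum C) from hC.ge)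
    refine ⟨s.head.asIdeal, s.head.isPrime, le_antisymm ((ringKrullDim_quotient_le _).trans hC.le) ?_⟩
    rw [ringKrullDim_quotient]
    refine Order.le_krullDim_iff.mpr ⟨LTSeries.mk s.length
      (fun i => ⟨s i, (PrimeSpectrum.mem_zeroLocus _ _).mpr (SetLike.coe_subset_coe.mpr
        (PrimeSpectrum.asIdeal_le_asIdeal _ _ |>.mpr (s.head_le i)))⟩) (fun i j hij => s.strictMono hij), hs⟩
  have : IsLocalRing (C ⧸ P) := IsLocalRing.of_surjective' _ Ideal.Quotient.mk_surjective
  let ι : A →+* C ⧸ P := (Ideal.Quotient.mk P).comp (algebraMap A C)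
  have : CharP (C ⧸ P) p := (CharP.charP_iff_prime_eq_zero (Fact.out : p.Prime)).2 (by
    rw [← map_natCast ι, CharP.cast_eq_zero, map_zero])
  have hmap : maximalIdeal (C ⧸ P) = (maximalIdeal A).map ι := by
    rw [← Groth.MonConj.map_maximalIdeal_of_surjective (Ideal.Quotient.mk P) Ideal.Quotient.mk_surjective,
      AdicCompletion.maximalIdeal_eq_map, Ideal.map_map]
  have := isAdicComplete_quotient P
  have hι : ∀ a ∈ maximalIdeal A, ι a ∈ maximalIdeal (C ⧸ P) := fun a ha => hmap ▸ Ideal.mem_map_of_mem ι ha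
  obtain ⟨N, hN⟩ := exists_pow_le_of_isFiniteLength hsop
  have hN' : maximalIdeal (C ⧸ P) ^ N ≤ Ideal.span (Set.range (ι ∘ x)) := by
    rw [hmap, ← Ideal.map_pow, Set.range_comp, ← Ideal.map_span]
    exact Ideal.map_mono hN
  obtain ⟨c, hc, hkill⟩ := exists_colon_killer (C ⧸ P) p hPd (ι ∘ x) (fun j => hι _ (hx j))
    (Module.length_ne_top_iff.1 (Groth.FrobLCI.HK.length_quotient_ne_top hN'))
  exact ⟨C ⧸ P, inferInstance, inferInstance, inferInstance, inferInstance, inferInstance, ι, c, hPd, hι,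
    ⟨N, hN'⟩, hc, hkill⟩

theorem tw_comp_apply {R S : Type u} [CommRing R] [CommRing S] (φ : R →+* S) {ι κ : Type} [Fintype ι]
    [DecidableEq ι] [Fintype κ] [DecidableEq κ] {μ : Type} [Fintype μ] [DecidableEq μ]
    (L : (ι → R) →ₗ[R] (κ → R)) (L' : (κ → R) →ₗ[R] (μ → R)) (v : ι → S) :
    tw φ L' (tw φ L v) = tw φ (L'.comp L) v := by
  simp only [tw, Matrix.mulVecLin_apply, Matrix.mulVec_mulVec, LinearMap.toMatrix'_comp, Matrix.map_mul]

/-- A complex and a chain map out of the Koszul complex, moved along a ring homomorphism and fed to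
`CE.main`. -/
theorem main_tw {R S : Type u} [CommRing R] [CommRing S] (φ : R →+* S) {n : ℕ} (x : Fin n → R) (c : S)
    (hc : ∀ (i : ℕ) (v : idx n (i + 1) → S), CE.d (φ ∘ x) i v = 0 → ∃ w, CE.d (φ ∘ x) (i + 1) w = c • v)
    (b : ℕ → ℕ) (G : ∀ i, (Fin (b (i + 1)) → R) →ₗ[R] (Fin (b i) → R))
    (hG : ∀ i v, G i (G (i + 1) v) = 0) (f : ∀ i, (idx n i → R) →ₗ[R] (Fin (b i) → R))
    (hf : ∀ i v, f i (CE.d x i v) = G i (f (i + 1) v))
    (u : (Fin (b 0) → S) →ₗ[S] S) (hu : ∀ v, u (φ ∘ G 0 v) ∈ Ideal.span (Set.range (φ ∘ x))) :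
    c ^ (n + 1) * u (φ ∘ f 0 (Pi.single (pt n) 1)) ∈
      Ideal.span (Set.range (φ ∘ x)) ⊔ Ideal.span (Set.range (φ ∘ f n (Pi.single (top n) 1))) := by
  classical
  have h := main (φ ∘ x) c hc b (fun i => tw φ (G i))
    (fun i v => by
      rw [tw_comp_apply, show (G i).comp (G (i + 1)) = 0 from LinearMap.ext (hG i)]
      simp [tw]) (fun i => tw φ (f i))
    (fun i v => by
      have h0 : (tw φ (f i)).comp (dL (M := S) (φ ∘ x) i) = (tw φ (G i)).comp (tw φ (f (i + 1))) :=
        ext_single fun e => by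
          rw [LinearMap.comp_apply, LinearMap.comp_apply, map_single φ e, tw_apply, tw_apply]
          change tw φ (f i) (CE.d (φ ∘ x) i (φ ∘ Pi.single e 1)) = _
          rw [d_ringHom, tw_apply, hf]
      exact LinearMap.congr_fun h0 v)
    u (fun v => by
      rw [← (Pi.basisFun S _).sum_repr v, map_sum, map_sum]
      refine Ideal.sum_mem _ fun e _ => ?_
      rw [map_smul, map_smul, Pi.basisFun_apply, map_single φ e, tw_apply, smul_eq_mul]
      exact Ideal.mul_mem_left _ _ (hu _))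
  rwa [map_single φ (pt n), map_single φ (top n), tw_apply, tw_apply] at h

end Groth.FrobLCI.CE
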