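import Groth.Agent.FrobLCI.CE.PowerSeries
import Groth.Agent.FrobLCI.HK.Restrict
import Groth.Agent.Calg1.Completion
import Groth.Agent.Calg6.PowerSeries
import Groth.Agent.S2452
import Groth.Agent.S5763
import Groth.Agent.GrpschAbsch.PerfectReduced
import Groth.Agent.Ega4Algebra1.RegularLocal
import Mathlib.Algebra.Algebra.ZMod
import Mathlib.FieldTheory.Finite.Basic

/-!
A complete local domain of characteristic `p`: a nonzero element kills the positive Koszul homology
of all powers of a system of parameters.
-/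

universe u

namespace Groth.FrobLCI.CE

open IsLocalRing

theorem exists_colon_killer (D : Type u) [CommRing D] [IsDomain D] [IsNoetherianRing D] [IsLocalRing D]
    [IsAdicComplete (maximalIdeal D) D] (p : ℕ) [Fact p.Prime] [CharP D p] {d : ℕ}
    (hd : ringKrullDim D = d) (x : Fin d → D) (hx : ∀ j, x j ∈ maximalIdeal D)
    (hsop : IsFiniteLength D (D ⧸ Ideal.span (Set.range x))) :
    ∃ c : D, c ≠ 0 ∧ ∀ (m : ℕ) (i : ℕ) (v : idx d (i + 1) → D),
      CE.d (fun j => x j ^ m) i v = 0 → ∃ w, CE.d (fun j => x j ^ m) (i + 1) w = c • v := by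
  classical
  letI : Algebra (ULift.{u} (ZMod p)) D :=
    ((ZMod.castHom (dvd_refl p) D).comp
      (ULift.ringEquiv : ULift.{u} (ZMod p) ≃+* ZMod p).toRingHom).toAlgebra
  have : PerfectField (ULift.{u} (ZMod p)) := PerfectField.ofFinite
  have : Algebra.IsGeometricallyReduced (ULift.{u} (ZMod p)) (ResidueField D) :=
    Groth.GrpschAbsch.isGeometricallyReduced_of_perfectField _ _
  obtain ⟨σ, hσ⟩ := Groth.Agent.S2452.result (k := ULift.{u} (ZMod p)) (A := D)
  set k := ResidueField D
  letI : Algebra k D := σ.toRingHom.toAlgebra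
  have hres : ∀ b : D, ∃ a : k, b - algebraMap k D a ∈ maximalIdeal D := fun b =>
    ⟨residue D b, (residue_eq_zero_iff _).1 (by
      rw [map_sub]; exact sub_eq_zero.2 (hσ (residue D b)).symm)⟩
  let B := MvPowerSeries (Fin d) k
  let φ : B →ₐ[k] D := Groth.Calg6.evalAdic (maximalIdeal D) x hx
  have hφX : ∀ j, φ (MvPowerSeries.X j) = x j := fun j => Groth.Calg6.evalAdic_X _ _ _ _
  letI : Algebra B D := φ.toRingHom.toAlgebra
  have : IsScalarTower k B D := IsScalarTower.of_algebraMap_eq fun a => (φ.commutes a).symm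
  set I : Ideal B := Ideal.span (Set.range (MvPowerSeries.X : Fin d → B)) with hI
  have : IsAdicComplete I B := Groth.Calg6.isAdicComplete_varIdeal (σ := Fin d) (k := k)
  have hImap : I.map (algebraMap B D) = Ideal.span (Set.range x) := by
    rw [hI, Ideal.map_span, ← Set.range_comp]
    congr 2
    exact funext hφX
  have : IsHausdorff I D := by
    rw [← IsHausdorff.map_algebraMap_iff (S := D), hImap]
    refine IsHausdorff.of_le_jacobson _ _ ((Ideal.span_le.2 ?_).trans (maximalIdeal_le_jacobson _))
    rintro _ ⟨j, rfl⟩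
    exact hx j
  have : Module.Finite k (D ⧸ Ideal.span (Set.range x)) := by
    have h1 := Groth.FrobLCI.HK.length_restrictScalars_eq hres (D ⧸ Ideal.span (Set.range x)) hsop
    have h2 : Module.length k (D ⧸ Ideal.span (Set.range x)) ≠ ⊤ := h1 ▸ Module.length_ne_top_iff.2 hsop
    have := (isFiniteLength_iff_isNoetherian_isArtinian.1 (Module.length_ne_top_iff.1 h2)).1
    exact Module.IsNoetherian.finite k _
  have hfinq : Module.Finite B (D ⧸ (I • ⊤ : Submodule B D)) := by
    have : Module.Finite B (D ⧸ Ideal.span (Set.range x)) := Module.Finite.of_restrictScalars_finite k _ _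
    exact Module.Finite.equiv ((Submodule.Quotient.restrictScalarsEquiv B (Ideal.span (Set.range x))).symm.trans
      (Submodule.quotEquivOfEq ((Ideal.span (Set.range x)).restrictScalars B)
        (I • ⊤ : Submodule B D) (by rw [Ideal.smul_top_eq_map, hImap])))
  have : Module.Finite B D := Groth.Calg1.module_finite_of_isHausdorff I D hfinq
  have : IsRegularLocalRing B := Groth.Calg6.isRegularLocalRing_mvPowerSeries k d
  have : IsDomain B := Groth.Ega4Algebra1.isDomain_of_isRegularLocalRing B
  have hinj : Function.Injective (algebraMap B D) := by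
    rw [RingHom.injective_iff_ker_eq_bot]
    by_contra hne
    set P := RingHom.ker (algebraMap B D)
    obtain ⟨r, hr, hr0⟩ := Submodule.exists_mem_ne_zero_of_ne_bot hne
    letI : Algebra (B ⧸ P) D := (RingHom.kerLift (algebraMap B D)).toAlgebra
    have : IsScalarTower B (B ⧸ P) D :=
      IsScalarTower.of_algebraMap_eq (R := B) (S := B ⧸ P) (A := D) fun b => (RingHom.kerLift_mk _ b).symm
    have : Module.Finite (B ⧸ P) D := Module.Finite.of_restrictScalars_finite B _ _
    have h1 := (Groth.Agent.S5763.result (B ⧸ P) D).2 (RingHom.kerLift_injective _)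
    have h2 := ringKrullDim_quotient_succ_le_of_nonZeroDivisor (mem_nonZeroDivisors_of_ne_zero hr0) (R := B)
    have h3 : ringKrullDim (B ⧸ P) ≤ ringKrullDim (B ⧸ Ideal.span {r}) :=
      ringKrullDim_le_of_surjective (Ideal.Quotient.factor ((Ideal.span_singleton_le_iff_mem P).2 hr))
        (Ideal.Quotient.factor_surjective _)
    have h4 : ringKrullDim (B ⧸ P) + 1 ≤ ringKrullDim B := (add_le_add_left h3 1).trans h2
    rw [← h1, hd, Groth.Calg6.ringKrullDim_mvPowerSeries] at h4
    norm_cast at h4
    omega
  obtain ⟨r, ψ, c, hψ, hc, hcψ⟩ := Groth.FrobLCI.HK.exists_free_submodule (D := B) D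
  refine ⟨algebraMap B D c, fun h => hc (hinj (by rw [h, map_zero])), fun m i v hv => ?_⟩
  let xB : Fin d → B := fun j => (MvPowerSeries.X j : B) ^ m
  have hxB : (fun j => x j ^ m) = algebraMap B D ∘ xB := funext fun j => by
    rw [Function.comp_apply, map_pow]
    exact congrArg (· ^ m) (hφX j).symm
  rw [hxB] at hv ⊢
  rw [d_algebraMap] at hv
  choose y hy using fun j => hcψ (v j)
  have hy' : ψ ∘ y = c • v := funext fun j => hy j
  have hdy : CE.d xB i y = 0 := funext fun j => hψ (by
    have h := congrFun (d_map ψ xB i y) j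
    rw [hy', d_smul, hv, smul_zero] at h
    rw [Pi.zero_apply, map_zero]
    exact h.symm)
  obtain ⟨w, hw⟩ := exact_of_good xB (good_pow_X (k := k) (σ := Fin d) m id Function.injective_id) i y hdy
  refine ⟨ψ ∘ w, ?_⟩
  rw [d_algebraMap, d_map, hw, hy']
  exact funext fun j => (algebraMap_smul D c (v j)).symm

end Groth.FrobLCI.CE
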