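import Mathlib.RingTheory.Regular.RegularSequence
import Mathlib.LinearAlgebra.Matrix.ToLin
import Mathlib.Tactic

/-!
A concrete recursive model of the Koszul complex: in degree `i` the free module on `idx n i`.
The differential follows the mapping-cone sign convention.
-/

universe u v w

namespace Groth.FrobLCI.CE

/-- Index type of the basis in degree `i` of the Koszul complex on `n` elements. -/
@[reducible] def idx : ℕ → ℕ → Type
  | 0, 0 => Unit
  | 0, _ + 1 => Empty
  | n + 1, 0 => idx n 0
  | n + 1, i + 1 => idx n i ⊕ idx n (i + 1)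

/-- `idx` is finite. -/
def fintypeIdx : ∀ n i, Fintype (idx n i)
  | 0, 0 => inferInstanceAs (Fintype Unit)
  | 0, _ + 1 => inferInstanceAs (Fintype Empty)
  | n + 1, 0 => fintypeIdx n 0
  | n + 1, i + 1 =>
    letI := fintypeIdx n i
    letI := fintypeIdx n (i + 1)
    inferInstanceAs (Fintype (idx n i ⊕ idx n (i + 1)))

instance (n i : ℕ) : Fintype (idx n i) := fintypeIdx n i

noncomputable instance (n i : ℕ) : DecidableEq (idx n i) := Classical.decEq _

/-- The unique index in degree `0`. -/
def pt : ∀ n, idx n 0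
  | 0 => ()
  | n + 1 => pt n

theorem eq_pt : ∀ (n : ℕ) (j : idx n 0), j = pt n
  | 0, _ => rfl
  | n + 1, j => eq_pt n j

theorem isEmpty_idx : ∀ (n i : ℕ), n < i → IsEmpty (idx n i)
  | 0, 0, h => absurd h (lt_irrefl 0)
  | 0, _ + 1, _ => inferInstanceAs (IsEmpty Empty)
  | n + 1, 0, h => absurd h (Nat.not_lt_zero _)
  | n + 1, i + 1, h => by
    have := isEmpty_idx n i (by omega)
    have := isEmpty_idx n (i + 1) (by omega)
    exact inferInstanceAs (IsEmpty (idx n i ⊕ idx n (i + 1)))

/-- The unique index in top degree. -/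
def top : ∀ n, idx n n
  | 0 => ()
  | n + 1 => Sum.inl (top n)

theorem eq_top : ∀ (n : ℕ) (j : idx n n), j = top n
  | 0, _ => rfl
  | n + 1, Sum.inl a => congrArg Sum.inl (eq_top n a)
  | n + 1, Sum.inr b => (isEmpty_idx n (n + 1) n.lt_succ_self).elim b

variable {R : Type u} [CommRing R] {M : Type v} [AddCommGroup M] [Module R M]
  {N : Type w} [AddCommGroup N] [Module R N]

/-- The differential of the Koszul complex. -/
def d : ∀ {n : ℕ} (_x : Fin n → R) (i : ℕ), (idx n (i + 1) → M) → (idx n i → M)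
  | 0, _, _, _ => fun _ => 0
  | n + 1, x, 0, v => fun j => x 0 • v (Sum.inl j) + d (Fin.tail x) 0 (fun k => v (Sum.inr k)) j
  | n + 1, x, i + 1, v => fun j =>
    match (j : idx n i ⊕ idx n (i + 1)) with
    | Sum.inl a => - d (Fin.tail x) i (fun k => v (Sum.inl k)) a
    | Sum.inr b => x 0 • v (Sum.inl b) + d (Fin.tail x) (i + 1) (fun k => v (Sum.inr k)) b

section lemmas

variable {n : ℕ} (x : Fin (n + 1) → R)

theorem d_zero_apply (v : idx (n + 1) 1 → M) (j : idx n 0) :
    d x 0 v j = x 0 • v (Sum.inl j) + d (Fin.tail x) 0 (fun k => v (Sum.inr k)) j := rfl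

theorem d_succ_inl (i : ℕ) (v : idx (n + 1) (i + 2) → M) (a : idx n i) :
    d x (i + 1) v (Sum.inl a) = - d (Fin.tail x) i (fun k => v (Sum.inl k)) a := rfl

theorem d_succ_inr (i : ℕ) (v : idx (n + 1) (i + 2) → M) (b : idx n (i + 1)) :
    d x (i + 1) v (Sum.inr b) =
      x 0 • v (Sum.inl b) + d (Fin.tail x) (i + 1) (fun k => v (Sum.inr k)) b := rfl

end lemmas

theorem d_add : ∀ {n : ℕ} (x : Fin n → R) (i : ℕ) (v w : idx n (i + 1) → M),
    d x i (v + w) = d x i v + d x i w
  | 0, _, _, _, _ => funext fun _ => (add_zero (0 : M)).symm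
  | n + 1, x, 0, v, w => funext fun j => by
    rw [Pi.add_apply, d_zero_apply, d_zero_apply, d_zero_apply,
      show (fun k => (v + w) (Sum.inr k)) = (fun k => v (Sum.inr k)) + fun k => w (Sum.inr k) from rfl,
      d_add, Pi.add_apply, Pi.add_apply, smul_add]
    abel
  | n + 1, x, i + 1, v, w => funext fun j => by
    rcases j with a | b
    · rw [Pi.add_apply, d_succ_inl, d_succ_inl, d_succ_inl,
        show (fun k => (v + w) (Sum.inl k)) = (fun k => v (Sum.inl k)) + fun k => w (Sum.inl k) from rfl,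
        d_add, Pi.add_apply]
      abel
    · rw [Pi.add_apply, d_succ_inr, d_succ_inr, d_succ_inr,
        show (fun k => (v + w) (Sum.inr k)) = (fun k => v (Sum.inr k)) + fun k => w (Sum.inr k) from rfl,
        d_add, Pi.add_apply, Pi.add_apply, smul_add]
      abel

theorem d_smul : ∀ {n : ℕ} (x : Fin n → R) (i : ℕ) (c : R) (v : idx n (i + 1) → M),
    d x i (c • v) = c • d x i v
  | 0, _, _, _, _ => funext fun _ => (smul_zero _).symm
  | n + 1, x, 0, c, v => funext fun j => by
    rw [Pi.smul_apply, d_zero_apply, d_zero_apply,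
      show (fun k => (c • v) (Sum.inr k)) = c • fun k => v (Sum.inr k) from rfl,
      d_smul, Pi.smul_apply, Pi.smul_apply, smul_add, smul_comm]
  | n + 1, x, i + 1, c, v => funext fun j => by
    rcases j with a | b
    · rw [Pi.smul_apply, d_succ_inl, d_succ_inl,
        show (fun k => (c • v) (Sum.inl k)) = c • fun k => v (Sum.inl k) from rfl,
        d_smul, Pi.smul_apply, smul_neg]
    · rw [Pi.smul_apply, d_succ_inr, d_succ_inr,
        show (fun k => (c • v) (Sum.inr k)) = c • fun k => v (Sum.inr k) from rfl,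
        d_smul, Pi.smul_apply, Pi.smul_apply, smul_add, smul_comm]

/-- The differential as a linear map. -/
def dL {n : ℕ} (x : Fin n → R) (i : ℕ) : (idx n (i + 1) → M) →ₗ[R] (idx n i → M) where
  toFun := d x i
  map_add' := d_add x i
  map_smul' := d_smul x i

theorem d_map (φ : M →ₗ[R] N) : ∀ {n : ℕ} (x : Fin n → R) (i : ℕ) (v : idx n (i + 1) → M),
    d x i (φ ∘ v) = φ ∘ d x i v
  | 0, _, _, _ => funext fun _ => (map_zero φ).symm
  | n + 1, x, 0, v => funext fun j => by
    rw [Function.comp_apply, d_zero_apply, d_zero_apply,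
      show (fun k => (φ ∘ v) (Sum.inr k)) = φ ∘ fun k => v (Sum.inr k) from rfl,
      d_map, Function.comp_apply, Function.comp_apply, map_add, map_smul]
  | n + 1, x, i + 1, v => funext fun j => by
    rcases j with a | b
    · rw [Function.comp_apply, d_succ_inl, d_succ_inl,
        show (fun k => (φ ∘ v) (Sum.inl k)) = φ ∘ fun k => v (Sum.inl k) from rfl,
        d_map, Function.comp_apply, map_neg]
    · rw [Function.comp_apply, d_succ_inr, d_succ_inr,
        show (fun k => (φ ∘ v) (Sum.inr k)) = φ ∘ fun k => v (Sum.inr k) from rfl,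
        d_map, Function.comp_apply, Function.comp_apply, map_add, map_smul]

/-- Semilinearity in the ring. -/
theorem d_ringHom {S : Type*} [CommRing S] (φ : R →+* S) : ∀ {n : ℕ} (x : Fin n → R) (i : ℕ)
    (v : idx n (i + 1) → R), d (φ ∘ x) i (φ ∘ v) = φ ∘ d x i v
  | 0, _, _, _ => funext fun _ => (map_zero φ).symm
  | n + 1, x, 0, v => funext fun j => by
    rw [Function.comp_apply, d_zero_apply, d_zero_apply,
      show (fun k => (φ ∘ v) (Sum.inr k)) = φ ∘ fun k => v (Sum.inr k) from rfl,
      show Fin.tail (φ ∘ x) = φ ∘ Fin.tail x from rfl,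
      d_ringHom, Function.comp_apply, Function.comp_apply, Function.comp_apply, map_add, smul_eq_mul,
      smul_eq_mul, map_mul]
  | n + 1, x, i + 1, v => funext fun j => by
    rcases j with a | b
    · rw [Function.comp_apply, d_succ_inl, d_succ_inl,
        show (fun k => (φ ∘ v) (Sum.inl k)) = φ ∘ fun k => v (Sum.inl k) from rfl,
        show Fin.tail (φ ∘ x) = φ ∘ Fin.tail x from rfl,
        d_ringHom, Function.comp_apply, map_neg]
    · rw [Function.comp_apply, d_succ_inr, d_succ_inr,
        show (fun k => (φ ∘ v) (Sum.inr k)) = φ ∘ fun k => v (Sum.inr k) from rfl,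
        show Fin.tail (φ ∘ x) = φ ∘ Fin.tail x from rfl,
        d_ringHom, Function.comp_apply, Function.comp_apply, Function.comp_apply, map_add, smul_eq_mul,
        smul_eq_mul, map_mul]

/-- The same scalars, seen in an algebra. -/
theorem d_algebraMap {S : Type*} [CommRing S] [Algebra R S] [Module S M] [IsScalarTower R S M] :
    ∀ {n : ℕ} (x : Fin n → R) (i : ℕ) (v : idx n (i + 1) → M),
      d (algebraMap R S ∘ x) i v = d x i v
  | 0, _, _, _ => rfl
  | n + 1, x, 0, v => funext fun j => by
    rw [d_zero_apply, d_zero_apply, show Fin.tail (algebraMap R S ∘ x) = algebraMap R S ∘ Fin.tail x from rfl,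
      d_algebraMap, Function.comp_apply, algebraMap_smul]
  | n + 1, x, i + 1, v => funext fun j => by
    rcases j with a | b
    · rw [d_succ_inl, d_succ_inl, show Fin.tail (algebraMap R S ∘ x) = algebraMap R S ∘ Fin.tail x from rfl,
        d_algebraMap]
    · rw [d_succ_inr, d_succ_inr, show Fin.tail (algebraMap R S ∘ x) = algebraMap R S ∘ Fin.tail x from rfl,
        d_algebraMap, Function.comp_apply, algebraMap_smul]

theorem d_d : ∀ {n : ℕ} (x : Fin n → R) (i : ℕ) (v : idx n (i + 2) → M), d x i (d x (i + 1) v) = 0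
  | 0, _, _, _ => rfl
  | n + 1, x, 0, v => funext fun j => by
    rw [d_zero_apply, d_succ_inl]
    have h : (fun k => d x 1 v (Sum.inr k)) =
        x 0 • (fun k => v (Sum.inl k)) + d (Fin.tail x) 1 (fun k => v (Sum.inr k)) := rfl
    rw [h, d_add, d_smul, d_d, add_zero, Pi.smul_apply, smul_neg, neg_add_cancel, Pi.zero_apply]
  | n + 1, x, i + 1, v => funext fun j => by
    rcases j with a | b
    · rw [d_succ_inl]
      have h : (fun k => d x (i + 2) v (Sum.inl k)) = -(d (Fin.tail x) (i + 1) fun k => v (Sum.inl k)) := rfl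
      rw [h, ← neg_one_smul R (d (Fin.tail x) (i + 1) fun k => v (Sum.inl k)), d_smul, d_d, smul_zero,
        Pi.zero_apply, neg_zero, Pi.zero_apply]
    · rw [d_succ_inr, d_succ_inl]
      have h : (fun k => d x (i + 2) v (Sum.inr k)) =
          x 0 • (fun k => v (Sum.inl k)) + d (Fin.tail x) (i + 2) (fun k => v (Sum.inr k)) := rfl
      rw [h, d_add, d_smul, d_d, add_zero, Pi.smul_apply, smul_neg, neg_add_cancel, Pi.zero_apply]

theorem span_tail_le {n : ℕ} (x : Fin (n + 1) → R) :
    Ideal.span (Set.range (Fin.tail x)) ≤ Ideal.span (Set.range x) :=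
  Ideal.span_mono (Set.range_subset_iff.2 fun k => ⟨k.succ, rfl⟩)

theorem d_mem_smul_top : ∀ {n : ℕ} (x : Fin n → R) (i : ℕ) (v : idx n (i + 1) → M) (j : idx n i),
    d x i v j ∈ (Ideal.span (Set.range x) • ⊤ : Submodule R M)
  | 0, _, _, _, _ => zero_mem _
  | n + 1, x, 0, v, j => by
    rw [d_zero_apply]
    exact add_mem (Submodule.smul_mem_smul (Ideal.subset_span ⟨0, rfl⟩) trivial)
      (Submodule.smul_mono (span_tail_le x) le_rfl
        (d_mem_smul_top (Fin.tail x) 0 _ j))
  | n + 1, x, i + 1, v, j => by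
    have hle : (Ideal.span (Set.range (Fin.tail x)) • ⊤ : Submodule R M) ≤ Ideal.span (Set.range x) • ⊤ :=
      Submodule.smul_mono (span_tail_le x) le_rfl
    rcases j with a | b
    · rw [d_succ_inl]
      exact neg_mem (hle (d_mem_smul_top (Fin.tail x) i _ a))
    · rw [d_succ_inr]
      exact add_mem (Submodule.smul_mem_smul (Ideal.subset_span ⟨0, rfl⟩) trivial)
        (hle (d_mem_smul_top (Fin.tail x) (i + 1) _ b))

/-- Every element of `(x) M` is a boundary in degree zero. -/
theorem exists_d_eq : ∀ {n : ℕ} (x : Fin n → R) (m : M), m ∈ (Ideal.span (Set.range x) • ⊤ : Submodule R M) →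
    ∃ v, d x 0 v (pt n) = m
  | 0, x, m, hm => ⟨0, by
    rw [Set.range_eq_empty, Ideal.span_empty, Submodule.bot_smul, Submodule.mem_bot] at hm
    exact hm.symm⟩
  | n + 1, x, m, hm => by
    have hsplit : Ideal.span (Set.range x) = Ideal.span {x 0} ⊔ Ideal.span (Set.range (Fin.tail x)) := by
      rw [← Ideal.span_union]
      congr 1
      conv_lhs => rw [← Fin.cons_self_tail x, Fin.range_cons]
      exact Set.insert_eq _ _
    rw [hsplit, Submodule.sup_smul, Submodule.mem_sup] at hm
    obtain ⟨a, ha, b, hb, rfl⟩ := hm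
    rw [Submodule.ideal_span_singleton_smul, Submodule.mem_smul_pointwise_iff_exists] at ha
    obtain ⟨a, -, rfl⟩ := ha
    obtain ⟨w, hw⟩ := exists_d_eq (Fin.tail x) b hb
    refine ⟨fun j => Sum.elim (fun _ => a) w (show idx n 0 ⊕ idx n 1 from j), ?_⟩
    change x 0 • a + d (Fin.tail x) 0 w (pt n) = x 0 • a + b
    rw [hw]

/-- The regularity hypothesis of the recursion: each `x 0` is regular modulo the later elements. -/
def Good (M : Type v) [AddCommGroup M] [Module R M] : ∀ {n : ℕ}, (Fin n → R) → Prop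
  | 0, _ => True
  | _ + 1, x => (∀ m : M, x 0 • m ∈ (Ideal.span (Set.range (Fin.tail x)) • ⊤ : Submodule R M) →
      m ∈ (Ideal.span (Set.range (Fin.tail x)) • ⊤ : Submodule R M)) ∧ Good M (Fin.tail x)

/-- Exactness in positive degrees for regular sequences. -/
theorem exact_of_good : ∀ {n : ℕ} (x : Fin n → R), Good M x → ∀ (i : ℕ) (v : idx n (i + 1) → M),
    d x i v = 0 → ∃ w, d x (i + 1) w = v
  | 0, _, _, _, _, _ => ⟨0, funext fun j => Empty.elim j⟩
  | n + 1, x, ⟨hreg, hgood⟩, 0, v, hv => by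
    set a : idx n 0 → M := fun k => v (Sum.inl k)
    set b : idx n 1 → M := fun k => v (Sum.inr k)
    have h0 := congrFun hv (pt n)
    rw [d_zero_apply] at h0
    have ha : a (pt n) ∈ (Ideal.span (Set.range (Fin.tail x)) • ⊤ : Submodule R M) := hreg _ (by
      rw [eq_neg_of_add_eq_zero_left h0]
      exact neg_mem (d_mem_smul_top _ _ _ _))
    obtain ⟨w₁, hw₁⟩ := exists_d_eq _ _ ha
    have hw₁' : d (Fin.tail x) 0 w₁ = a := funext fun j => by rw [eq_pt n j, hw₁]
    obtain ⟨w₂, hw₂⟩ := exact_of_good (Fin.tail x) hgood 0 (b + x 0 • w₁) (funext fun j => by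
      rw [d_add, d_smul, hw₁', Pi.add_apply, Pi.smul_apply, add_comm]
      exact congrFun hv j)
    refine ⟨fun j => Sum.elim (fun k => -w₁ k) w₂ (show idx n 1 ⊕ idx n 2 from j), funext fun j => ?_⟩
    rcases j with k | k
    · change -(d (Fin.tail x) 0 (fun k => -w₁ k) k) = a k
      rw [show (fun k => -w₁ k) = (-1 : R) • w₁ from funext fun k => (neg_one_smul R (w₁ k)).symm, d_smul, hw₁', Pi.smul_apply, neg_one_smul, neg_neg]
    · change x 0 • -w₁ k + d (Fin.tail x) 1 w₂ k = b k
      rw [hw₂, Pi.add_apply, Pi.smul_apply, smul_neg]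
      abel
  | n + 1, x, ⟨_, hgood⟩, i + 1, v, hv => by
    set a : idx n (i + 1) → M := fun k => v (Sum.inl k)
    set b : idx n (i + 2) → M := fun k => v (Sum.inr k)
    have hda : d (Fin.tail x) i a = 0 := funext fun k => neg_eq_zero.1 (congrFun hv (Sum.inl k))
    obtain ⟨w₁, hw₁⟩ := exact_of_good (Fin.tail x) hgood i a hda
    obtain ⟨w₂, hw₂⟩ := exact_of_good (Fin.tail x) hgood (i + 1) (b + x 0 • w₁) (funext fun j => by
      rw [d_add, d_smul, hw₁, Pi.add_apply, Pi.smul_apply, add_comm]
      exact congrFun hv (Sum.inr j))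
    refine ⟨fun j => Sum.elim (fun k => -w₁ k) w₂ (show idx n (i + 2) ⊕ idx n (i + 3) from j), funext fun j => ?_⟩
    rcases j with k | k
    · change -(d (Fin.tail x) (i + 1) (fun k => -w₁ k) k) = a k
      rw [show (fun k => -w₁ k) = (-1 : R) • w₁ from funext fun k => (neg_one_smul R (w₁ k)).symm, d_smul, hw₁, Pi.smul_apply, neg_one_smul, neg_neg]
    · change x 0 • -w₁ k + d (Fin.tail x) (i + 2) w₂ k = b k
      rw [hw₂, Pi.add_apply, Pi.smul_apply, smul_neg]
      abel

end Groth.FrobLCI.CE
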