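import Groth.Agent.FrobLCI.CE.Model
import Mathlib.RingTheory.MvPowerSeries.Basic

/-!
Powers of the variables of a power series ring satisfy the regularity hypothesis `CE.Good` on free
modules.
-/

universe u

namespace Groth.FrobLCI.CE

open MvPowerSeries

variable {k : Type u} [CommRing k] {σ : Type} [DecidableEq σ]

theorem mem_span_pow_iff (m : ℕ) (S : Finset σ) (g : MvPowerSeries σ k) :
    g ∈ Ideal.span ((fun s => (X s : MvPowerSeries σ k) ^ m) '' S) ↔
      ∀ e : σ →₀ ℕ, (∀ s ∈ S, e s < m) → coeff e g = 0 := by
  constructor
  · intro hg e he
    induction hg using Submodule.span_induction generalizing e with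
    | mem y hy =>
      obtain ⟨s, hs, rfl⟩ := hy
      simp only
      rw [coeff_X_pow, if_neg]
      intro h
      have := he s hs
      rw [h, Finsupp.single_eq_same] at this
      exact lt_irrefl _ this
    | zero => simp
    | add a b _ _ ha hb => rw [map_add, ha e he, hb e he, add_zero]
    | smul a y _ ih =>
      rw [smul_eq_mul, coeff_mul]
      refine Finset.sum_eq_zero fun q hq => ?_
      rw [ih q.2 fun s hs => lt_of_le_of_lt (by rw [← (Finset.mem_antidiagonal.1 hq)]; simp) (he s hs), mul_zero]
  · intro hg
    induction S using Finset.induction_on generalizing g with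
    | empty =>
      have : g = 0 := MvPowerSeries.ext fun e => by simpa using hg e (by simp)
      rw [this]; exact zero_mem _
    | @insert s S hs ih =>
      let h : MvPowerSeries σ k := fun e => coeff (e + Finsupp.single s m) g
      let g₁ : MvPowerSeries σ k := fun e => if e s < m then coeff e g else 0
      have hsplit : g = g₁ + X s ^ m * h := MvPowerSeries.ext fun e => by
        rw [map_add, X_pow_eq, coeff_monomial_mul]
        by_cases he : e s < m
        · rw [if_neg (fun hle => by have := hle s; rw [Finsupp.single_eq_same] at this; omega), add_zero]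
          exact (if_pos he).symm
        · rw [if_pos (Finsupp.single_le_iff.2 (not_lt.1 he)), one_mul]
          change coeff e g = (if e s < m then coeff e g else 0) + coeff (e - Finsupp.single s m + Finsupp.single s m) g
          rw [if_neg he, zero_add, tsub_add_cancel_of_le (Finsupp.single_le_iff.2 (not_lt.1 he))]
      rw [hsplit, Finset.coe_insert, Set.image_insert_eq, Ideal.span_insert]
      refine add_mem (Submodule.mem_sup_right (ih g₁ fun e he => ?_))
        (Submodule.mem_sup_left (Ideal.mul_mem_right _ _ (Ideal.mem_span_singleton_self _)))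
      change (if e s < m then coeff e g else 0) = 0
      by_cases hes : e s < m
      · rw [if_pos hes]
        exact hg e fun t ht => by
          rcases Finset.mem_insert.1 ht with rfl | ht
          · exact hes
          · exact he t ht
      · rw [if_neg hes]

theorem mem_smul_top_pi {R : Type*} [CommRing R] (I : Ideal R) {ι : Type*} [Fintype ι] (v : ι → R) :
    v ∈ (I • ⊤ : Submodule R (ι → R)) ↔ ∀ i, v i ∈ I := by
  classical
  constructor
  · intro hv i
    induction hv using Submodule.smul_induction_on' with
    | smul a ha w _ => exact I.mul_mem_right _ ha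
    | add a _ b _ ha hb => exact I.add_mem ha hb
  · intro hv
    rw [← (Pi.basisFun R ι).sum_repr v]
    exact Submodule.sum_mem _ fun i _ => Submodule.smul_mem_smul (by simpa using hv i) trivial

theorem good_pow_X (m : ℕ) {ι : Type*} [Fintype ι] : ∀ {n : ℕ} (e : Fin n → σ), Function.Injective e →
    Good (ι → MvPowerSeries σ k) (fun j => (X (e j) : MvPowerSeries σ k) ^ m)
  | 0, _, _ => trivial
  | n + 1, e, he => by
    refine ⟨fun v hv => ?_, good_pow_X m (fun j => e j.succ) (he.comp (Fin.succ_injective _))⟩
    have hS : Ideal.span (Set.range (Fin.tail fun j => (X (e j) : MvPowerSeries σ k) ^ m)) =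
        Ideal.span ((fun s => (X s : MvPowerSeries σ k) ^ m) '' (Finset.univ.image fun j : Fin n => e j.succ)) := by
      rw [Finset.coe_image, Finset.coe_univ, Set.image_univ, ← Set.range_comp]
      rfl
    rw [mem_smul_top_pi, hS] at hv ⊢
    intro i
    rw [mem_span_pow_iff]
    intro d hd
    have h := (mem_span_pow_iff m _ _).1 (hv i) (d + Finsupp.single (e 0) m) fun s hs => by
      have hne : e 0 ≠ s := by
        rintro rfl
        obtain ⟨j, -, hj⟩ := Finset.mem_image.1 hs
        exact (Fin.succ_ne_zero j) (he hj)
      rw [Finsupp.add_apply, Finsupp.single_eq_of_ne' hne, add_zero]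
      exact hd s hs
    rw [Pi.smul_apply, smul_eq_mul] at h
    simp only at h
    rw [X_pow_eq, coeff_monomial_mul, if_pos le_add_self, one_mul,
      add_tsub_cancel_right] at h
    exact h

end Groth.FrobLCI.CE
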